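import Mathlib.RingTheory.Support
import Mathlib.RingTheory.LocalRing.Module
import Mathlib.RingTheory.LocalRing.ResidueField.Ideal
import Mathlib.RingTheory.Spectrum.Prime.Topology
import Mathlib.LinearAlgebra.Dual.Lemmas

/-!
# The algebra of the openness of the simple locus

* `forall_eq_zero_iff` : no nonzero semilinear functional on `N` at `p` iff `p ∉ Supp N`.
* `isOpen_simple` : for `α : M → A` linear, the set of `p` such that `α` is nonzero at `p` and spans the semilinear
  functionals at `p` is open.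
-/

set_option autoImplicit false
universe u

open scoped TensorProduct

namespace K887.SimpleAlg

theorem forall_eq_zero_iff {A κ N : Type u} [CommRing A] [Field κ] [AddCommGroup N] [Module A N]
    [Module.Finite A N] (φ : A →+* κ) (p : PrimeSpectrum A) (hp : RingHom.ker φ = p.asIdeal) :
    (∀ β : N →ₛₗ[φ] κ, β = 0) ↔ p ∉ Module.support A N := by
  constructor
  · intro h hs
    rw [Module.mem_support_iff_nontrivial_residueField_tensorProduct] at hs
    obtain ⟨x, hx⟩ := exists_ne (0 : p.asIdeal.ResidueField ⊗[A] N)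
    obtain ⟨ℓ, hℓ⟩ := Module.Projective.exists_dual_ne_zero p.asIdeal.ResidueField hx
    apply hℓ
    let ρ : p.asIdeal.ResidueField →+* κ := Ideal.ResidueField.lift p.asIdeal φ hp.ge (by
      intro a ha
      have h0 : φ a ≠ 0 := fun h0 => ha (by rw [← hp]; exact h0)
      exact h0.isUnit)
    have hρ : ∀ a, ρ (algebraMap A _ a) = φ a := fun a => Ideal.ResidueField.lift_algebraMap _ _ _ _ _
    let β : N →ₛₗ[φ] κ :=
      { toFun := fun n => ρ (ℓ (1 ⊗ₜ n))
        map_add' := fun a b => by rw [TensorProduct.tmul_add, map_add, map_add]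
        map_smul' := fun a n => by
          have h1 : (1 : p.asIdeal.ResidueField) ⊗ₜ[A] (a • n) =
              (algebraMap A p.asIdeal.ResidueField a) • ((1 : p.asIdeal.ResidueField) ⊗ₜ[A] n) := by
            rw [TensorProduct.tmul_smul, algebraMap_smul]
          rw [h1, map_smul, smul_eq_mul, map_mul, hρ, smul_eq_mul] }
    have hβ := h β
    have h2 : ∀ n : N, ℓ ((1 : p.asIdeal.ResidueField) ⊗ₜ[A] n) = 0 := fun n => by
      have h3 : ρ (ℓ (1 ⊗ₜ n)) = 0 := congr($hβ n)
      exact (map_eq_zero ρ).mp h3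
    induction x with
    | zero => exact map_zero _
    | add a b ha hb =>
      by_cases ha0 : ℓ a = 0
      · by_cases hb0 : ℓ b = 0
        · rw [map_add, ha0, hb0, add_zero]
        · exact absurd (hb (fun h0 => hb0 (by rw [h0, map_zero])) hb0) hb0
      · exact absurd (ha (fun h0 => ha0 (by rw [h0, map_zero])) ha0) ha0
    | tmul c n =>
      have h4 : c ⊗ₜ[A] n = c • ((1 : p.asIdeal.ResidueField) ⊗ₜ[A] n) := by
        rw [TensorProduct.smul_tmul', smul_eq_mul, mul_one]
      rw [h4, map_smul, h2, smul_zero]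
  · intro h β
    rw [Module.mem_support_iff_of_finite, SetLike.not_le_iff_exists] at h
    obtain ⟨s, hs, hsp⟩ := h
    have hs0 : φ s ≠ 0 := fun h0 => hsp (by rw [← hp]; exact h0)
    apply LinearMap.ext
    intro n
    have h1 : φ s * β n = 0 := by
      rw [← smul_eq_mul, ← β.map_smulₛₗ, Module.mem_annihilator.mp hs n, map_zero]
    exact (mul_eq_zero.mp h1).resolve_left hs0

/-- Openness of the locus where `α` is nonzero and spans the semilinear functionals. -/
theorem isOpen_simple {A M : Type u} [CommRing A] [AddCommGroup M] [Module A M] [Module.Finite A M]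
    (α : M → A) (κ : PrimeSpectrum A → Type u) [∀ p, Field (κ p)] (φ : ∀ p, A →+* κ p)
    (hφ : ∀ p, RingHom.ker (φ p) = p.asIdeal) (αp : ∀ p, M →ₛₗ[φ p] κ p) (hα : ∀ p m, αp p m = φ p (α m)) :
    IsOpen {p : PrimeSpectrum A | αp p ≠ 0 ∧ ∀ β : M →ₛₗ[φ p] κ p, ∃ c : κ p, β = c • αp p} := by
  rw [isOpen_iff_forall_mem_open]
  intro p₀ hp₀
  obtain ⟨m₀, hm₀⟩ : ∃ m, αp p₀ m ≠ 0 := by
    by_contra hcon
    push Not at hcon
    exact hp₀.1 (LinearMap.ext hcon)
  have hmem : ∀ p : PrimeSpectrum A, αp p m₀ = 0 ↔ α m₀ ∈ p.asIdeal := fun p => by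
    rw [← hφ p, hα]; rfl
  let N := M ⧸ Submodule.span A {m₀}
  have key : ∀ p : PrimeSpectrum A, αp p m₀ ≠ 0 →
      ((αp p ≠ 0 ∧ ∀ β : M →ₛₗ[φ p] κ p, ∃ c : κ p, β = c • αp p) ↔ p ∉ Module.support A N) := by
    intro p hp
    rw [← forall_eq_zero_iff (φ p) p (hφ p)]
    constructor
    · rintro ⟨-, h⟩ β
      obtain ⟨c, hc⟩ := h (β.comp (Submodule.mkQ (Submodule.span A {m₀})))
      have h1 := congr($hc m₀)
      have h2 : Submodule.mkQ (Submodule.span A {m₀}) m₀ = 0 :=
        (Submodule.Quotient.mk_eq_zero _).mpr (Submodule.mem_span_singleton_self m₀)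
      rw [LinearMap.comp_apply, h2, map_zero, LinearMap.smul_apply, smul_eq_mul] at h1
      have h3 : c = 0 := (mul_eq_zero.mp h1.symm).resolve_right hp
      rw [h3, zero_smul] at hc
      apply LinearMap.ext
      intro y
      obtain ⟨x, rfl⟩ := Submodule.mkQ_surjective _ y
      exact congr($hc x)
    · intro h
      refine ⟨fun h0 => hp (by rw [h0]; rfl), fun β => ⟨β m₀ / αp p m₀, ?_⟩⟩
      let γ : M →ₛₗ[φ p] κ p := β - (β m₀ / αp p m₀) • αp p
      have hγ : Submodule.span A {m₀} ≤ LinearMap.ker γ := by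
        rw [Submodule.span_singleton_le_iff_mem]
        change β m₀ - (β m₀ / αp p m₀) * αp p m₀ = 0
        rw [div_mul_cancel₀ _ hp, sub_self]
      have h1 := h ((Submodule.span A {m₀}).liftQ γ hγ)
      have h2 : γ = 0 := by
        apply LinearMap.ext
        intro x
        exact congr($h1 (Submodule.mkQ _ x))
      exact sub_eq_zero.mp h2
  refine ⟨{p | α m₀ ∉ p.asIdeal} ∩ (Module.support A N)ᶜ, ?_, ?_, ?_⟩
  · rintro p ⟨h1, h2⟩
    exact (key p fun h => h1 ((hmem p).mp h)).mpr h2
  · refine IsOpen.inter ?_ ?_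
    · exact (PrimeSpectrum.basicOpen (α m₀)).isOpen
    · rw [Module.support_eq_zeroLocus]
      exact (PrimeSpectrum.isClosed_zeroLocus _).isOpen_compl
  · exact ⟨fun h => hm₀ ((hmem p₀).mpr h), (key p₀ hm₀).mp hp₀⟩

end K887.SimpleAlg
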