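import Groth.Agent.FGA.K887.RepMain
import Groth.Agent.ShStab.K887.SimpleAlg
import Groth.Prelude.Def_ega3

/-!
# Openness of the locus of simple fibres, over an affine open of the base
-/

set_option autoImplicit false
universe u
open CategoryTheory CategoryTheory.Limits AlgebraicGeometry Opposite TopologicalSpace

namespace K887.SimpleGeo

open K887.RepHom K887.HomSec
open K245.HomBC (homBC)
open Groth.Agent.Flat2F.BCSec (cmp)

theorem homBC_id {X W W' : Scheme.{u}} (k : W' ⟶ W) (a : W ⟶ X) (a' : W' ⟶ X) (h : k ≫ a = a') (L : X.Modules) :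
    homBC k a a' h L L (𝟙 _) = 𝟙 _ := by
  unfold homBC
  rw [CategoryTheory.Functor.map_id, Category.id_comp, Iso.inv_hom_id]

/-- Endomorphisms of `G` are scalars from `Γ(X, O)` in the image of `t`. -/
def Scal {X : Scheme.{u}} {κ : Type u} [CommRing κ] (t : κ →+* Γ(X, ⊤)) (G : X.Modules) : Prop :=
  ¬ IsZero G ∧ ∀ v : G ⟶ G, ∃ c : κ, v = sc G (t c)

theorem Scal.of_iso {X : Scheme.{u}} {κ : Type u} [CommRing κ] {t : κ →+* Γ(X, ⊤)} {G G' : X.Modules}
    (h : Scal t G) (e : G ≅ G') : Scal t G' := by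
  refine ⟨fun h0 => h.1 (h0.of_iso e), fun v => ?_⟩
  obtain ⟨c, hc⟩ := h.2 (e.hom ≫ v ≫ e.inv)
  refine ⟨c, ?_⟩
  rw [← cancel_epi e.hom, ← sc_naturality, ← hc]
  simp

theorem scal_iff {X : Scheme.{u}} {κ : Type u} [CommRing κ] {t : κ →+* Γ(X, ⊤)} {G G' : X.Modules}
    (e : G ≅ G') : Scal t G ↔ Scal t G' := ⟨fun h => h.of_iso e, fun h => h.of_iso e.symm⟩

variable {A : CommRingCat.{u}} {X : Scheme.{u}} {f : X ⟶ Spec A} {F : X.Modules}

/-- The scalar condition in terms of the representing module. -/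
theorem scal_iff_rep (R : Rep f F F) {B : CommRingCat.{u}} {X' : Scheme.{u}} {φ : A ⟶ B} {a : X' ⟶ X}
    {f' : X' ⟶ Spec B} (H : IsPullback a f' f (Spec.map φ)) (α : R.M →ₛₗ[φ.hom] B) (hα : R.θ H α = 𝟙 _)
    (t : B →+* Γ(X', ⊤)) (ht : ∀ c, t c = f'.appTop ((Scheme.ΓSpecIso B).inv c)) :
    Scal t ((Scheme.Modules.pullback a).obj F) ↔ (α ≠ 0 ∧ ∀ β : R.M →ₛₗ[φ.hom] B, ∃ c : B, β = c • α) := by
  have h1 : ∀ c : B, R.θ H (c • α) = sc _ (t c) := fun c => by
    rw [R.smul, hα, Category.id_comp, ht]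
  unfold Scal
  constructor
  · rintro ⟨h0, hs⟩
    refine ⟨fun h => h0 ?_, fun β => ?_⟩
    · rw [IsZero.iff_id_eq_zero, ← hα, h, R.zero]
    · obtain ⟨c, hc⟩ := hs (R.θ H β)
      exact ⟨c, (R.bij H).1 (hc.trans (h1 c).symm)⟩
  · rintro ⟨h0, hs⟩
    refine ⟨fun h => h0 ?_, fun v => ?_⟩
    · rw [IsZero.iff_id_eq_zero, ← hα] at h
      exact (R.bij H).1 (h.trans (R.zero H).symm)
    · obtain ⟨β, rfl⟩ := (R.bij H).2 v
      obtain ⟨c, rfl⟩ := hs β
      exact ⟨c, h1 c⟩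

theorem ker_eq {A : CommRingCat.{u}} {B : CommRingCat.{u}} (hB : IsField B) (φ : A ⟶ B) (t : Spec A) (x : Spec B)
    (h : (Spec.map φ) x = t) : RingHom.ker φ.hom = t.asIdeal := by
  subst h
  have hx : x.asIdeal = ⊥ := by
    rw [eq_bot_iff]
    intro b hb
    rw [Ideal.mem_bot]
    by_contra hb0
    obtain ⟨c, hc⟩ := hB.mul_inv_cancel hb0
    exact x.2.ne_top (Ideal.eq_top_of_isUnit_mem _ hb (IsUnit.of_mul_eq_one c hc))
  change RingHom.ker φ.hom = x.asIdeal.comap φ.hom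
  rw [hx]
  rfl

/-- Openness over an affine open of the base. -/
theorem isOpen_preimage {Y S : Scheme.{u}} (p : Y ⟶ S) (F : Y.Modules) {A : CommRingCat.{u}} (j : Spec A ⟶ S)
    [IsOpenImmersion j] {YA : Scheme.{u}} {a : YA ⟶ Y} {fA : YA ⟶ Spec A} (hsq : IsPullback a fA p j)
    (R : Rep fA ((Scheme.Modules.pullback a).obj F) ((Scheme.Modules.pullback a).obj F)) :
    IsOpen (j ⁻¹' {s : S | Scal ((Scheme.ΓSpecIso (S.residueField s)).inv ≫
      (p.fiberToSpecResidueField s).appTop).hom (CohIII.fiberMod p F s)}) := by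
  -- the points
  let ξ : ∀ t : Spec A, Spec (S.residueField (j t)) ⟶ Spec A := fun t =>
    inv (Spec.map (j.residueFieldMap t)) ≫ (Spec A).fromSpecResidueField t
  have hξ : ∀ t, ξ t ≫ j = S.fromSpecResidueField (j t) := fun t => by
    dsimp only [ξ]
    rw [Category.assoc, IsIso.inv_comp_eq, Scheme.Hom.SpecMap_residueFieldMap_fromSpecResidueField]
  let φ : ∀ t : Spec A, A ⟶ S.residueField (j t) := fun t => Spec.preimage (ξ t)
  have hφ : ∀ t, Spec.map (φ t) = ξ t := fun t => Spec.map_preimage _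
  have hker : ∀ t : Spec A, RingHom.ker (φ t).hom = t.asIdeal := fun t => by
    let x : Spec (S.residueField (j t)) := IsLocalRing.closedPoint _
    refine ker_eq (Field.toIsField _) (φ t) t x ?_
    apply j.isOpenEmbedding.injective
    rw [hφ, ← Scheme.Hom.comp_apply, hξ]
    exact Scheme.fromSpecResidueField_apply _ _
  have hlift : ∀ t : Spec A, p.fiberι (j t) ≫ p = (p.fiberToSpecResidueField (j t) ≫ ξ t) ≫ j := fun t => by
    rw [Category.assoc, hξ, Scheme.Hom.fiber_fac]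
  let b : ∀ t : Spec A, p.fiber (j t) ⟶ YA := fun t => hsq.lift _ _ (hlift t)
  have hb1 : ∀ t, b t ≫ a = p.fiberι (j t) := fun t => hsq.lift_fst _ _ _
  have hb2 : ∀ t, b t ≫ fA = p.fiberToSpecResidueField (j t) ≫ Spec.map (φ t) := fun t => by
    rw [hφ]
    exact hsq.lift_snd _ _ _
  have H : ∀ t, IsPullback (b t) (p.fiberToSpecResidueField (j t)) fA (Spec.map (φ t)) := fun t => by
    refine IsPullback.of_right (h₁₂ := a) (h₂₂ := j) (v₁₃ := p) ?_ (hb2 t) hsq
    rw [hb1, hφ, hξ]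
    exact IsPullback.of_hasPullback _ _
  have hid : IsPullback (𝟙 YA) fA fA (Spec.map (𝟙 A)) := by
    rw [Spec.map_id]
    exact IsPullback.id_horiz fA
  obtain ⟨α, hα⟩ := (R.bij hid).2 (𝟙 _)
  let αp : ∀ t : Spec A, R.M →ₛₗ[(φ t).hom] S.residueField (j t) := fun t =>
    { toFun := fun m => φ t (α m)
      map_add' := fun x y => by rw [map_add, map_add]
      map_smul' := fun c x => by
        rw [α.map_smulₛₗ, smul_eq_mul, map_mul]
        rfl }
  have hαp : ∀ t, R.θ (H t) (αp t) = 𝟙 _ := fun t => by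
    rw [R.nat' hid (φ t) (Category.id_comp _) (H t) (b t) (Category.comp_id _) (hb2 t) α (αp t) fun m => rfl, hα,
      homBC_id]
  have hfp := R.fp
  have key := K887.SimpleAlg.isOpen_simple (A := A) (M := R.M) α
    (fun t : PrimeSpectrum A => ↥(S.residueField (j (show Spec A from t))))
    (fun t => (φ t).hom) hker αp (fun t m => rfl)
  refine (congrArg IsOpen (Set.ext fun t => ?_)).mpr key
  exact (scal_iff (cmp (b t) a (p.fiberι (j t)) (hb1 t) F).symm).trans
    (scal_iff_rep R (H t) (αp t) (hαp t) _ (fun c => rfl))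

end K887.SimpleGeo
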