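import Groth.Agent.ShStab.K887.SimpleGeo
import Groth.Agent.FormalB.PullCoh
import Groth.Agent.RedSub.H672.MonoQP
import Groth.Agent.Fdesc.FlatBC

/-!
# Openness of the locus of simple fibres for `X ×_k S → S`, `X` projective over `k`
-/

set_option autoImplicit false
universe u
open CategoryTheory CategoryTheory.Limits AlgebraicGeometry Opposite TopologicalSpace

namespace K887.SimpleOpen

open K887.RepHom K887.HomSec K887.SimpleGeo

theorem isOpen_scal {K X S : Scheme.{u}} [IsAffine K] (x : X ⟶ K) (q : S ⟶ K) [IsProper x] {L : X.Modules}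
    (hL : CohB1.IsAmple L) [IsLocallyNoetherian S]
    (F : (pullback x q).Modules) (hF : Coh.IsCoh F)
    (hfl : FlatMod.IsFlatOver (pullback.snd x q) F) :
    IsOpen {s : S | Scal ((Scheme.ΓSpecIso (S.residueField s)).inv ≫
      ((pullback.snd x q).fiberToSpecResidueField s).appTop).hom (CohIII.fiberMod (pullback.snd x q) F s)} := by
  rw [isOpen_iff_forall_mem_open]
  intro s hs
  obtain ⟨R, j, hj, t, rfl, hR⟩ : ∃ (R : CommRingCat.{u}) (j : Spec R ⟶ S) (_ : IsOpenImmersion j)
      (t : Spec R), j t = s ∧ IsNoetherianRing R := by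
    obtain ⟨U, hU, hsU, -⟩ := exists_isAffineOpen_mem_and_subset (x := s) (U := ⊤) trivial
    have h1 : s ∈ Set.range hU.fromSpec := by
      rw [hU.range_fromSpec]
      exact hsU
    obtain ⟨t, ht⟩ := h1
    exact ⟨_, hU.fromSpec, inferInstance, t, ht, IsLocallyNoetherian.component_noetherian ⟨U, hU⟩⟩
  let p := pullback.snd x q
  have hsq : IsPullback (pullback.fst p j) (pullback.snd p j) p j := IsPullback.of_hasPullback p j
  have hbig : IsPullback (pullback.fst p j ≫ pullback.fst x q) (pullback.snd p j) x (j ≫ q) :=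
    hsq.paste_horiz (IsPullback.of_hasPullback x q)
  have haff : IsAffineHom (j ≫ q) := inferInstance
  have haff2 : IsAffineHom (pullback.fst p j ≫ pullback.fst x q) :=
    MorphismProperty.of_isPullback (P := @IsAffineHom) hbig.flip haff
  have hprop : IsProper (pullback.snd p j) := inferInstance
  have hres : PerfAux.HasResolutionProperty (pullback p j) :=
    Groth.Agent.PerfC.ResolAmple.hasResolutionProperty_of_isAmple
      (Groth.Agent.RedSub.H672.MonoQP.isAmple_pullback_of_isAffineHom (pullback.fst p j ≫ pullback.fst x q) hL)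
  have hc : Coh.IsCoh ((Scheme.Modules.pullback (pullback.fst p j)).obj F) :=
    Groth.Agent.FormalB.PullCoh.isCoh_pullback _ hF
  have hfl' : FlatMod.IsFlatOver (pullback.snd p j) ((Scheme.Modules.pullback (pullback.fst p j)).obj F) :=
    fun y => Groth.Agent.Fdesc.FlatBC.isFlatOverAt_pullback hsq F y (hfl _)
  obtain ⟨R'⟩ := nonempty_rep (pullback.snd p j) hres _ _ hc hc hfl'
  have hopen := isOpen_preimage p F j hsq R'
  refine ⟨j '' (j ⁻¹' _), Set.image_preimage_subset _ _, j.isOpenEmbedding.isOpenMap _ hopen, ⟨t, hs, rfl⟩⟩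

end K887.SimpleOpen
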